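import Cfsg.Agent.H847.Ux.Norm
import Cfsg.Agent.H141.Ux.Stmts

/-!
# S5716 (UM1): one orbit of configurations (helper541)

* `exists_dual` : dual bases of opposite totally isotropic subspaces;
* `key` : an isometry `E₀ → E` and a linear isomorphism `A₀ → A` are induced by an element of `G` which maps `A₀'` to `A'`.
-/

set_option autoImplicit false

namespace Cfsg.Agent.H541.Ux

open Module Cfsg.Agent.H847.Bs Cfsg.Agent.H141.Ux
open Cfsg.Agent.H440.Bs (perp mem_perp)

variable {F V : Type*} [Field F] [AddCommGroup V] [Module F V] {Φ : Frm F V} {G : Subgroup (V ≃ₗ[F] V)} {N : ℕ}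

theorem kl_of {t : ℕ} (h : Kl Φ G N t) : Cfsg.Agent.H847.Ux.Kl Φ G N := by
  rcases h with ⟨h1, h2, h3, -⟩ | ⟨r, h1, h2, h3, -⟩ | ⟨Q, h1, h2, h3, h4, -⟩
  · exact Or.inl ⟨h1, h2, h3⟩
  · exact Or.inr (Or.inl ⟨r, h1, h2, h3⟩)
  · exact Or.inr (Or.inr ⟨Q, h1, h2, h3, h4⟩)

/-- Witt's theorem for families with an arbitrary index set -/
theorem witt' [Finite F] [Finite V] (h : Cfsg.Agent.H847.Ux.Kl Φ G N) {ι : Type*} [Fintype ι] {k : ℕ}
    (hk : Fintype.card ι = k) (hn : 2 * k + 3 ≤ finrank F V) (h5 : 5 ≤ finrank F V) {u u' : ι → V}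
    (hu : LinearIndependent F u) (hu' : LinearIndependent F u') (h1 : ∀ i j, Φ.B (u i) (u j) = Φ.B (u' i) (u' j))
    (h2 : ∀ i, Φ.q (u i) = Φ.q (u' i)) : ∃ g ∈ G, ∀ i, g (u i) = u' i := by
  let σ : Fin k ≃ ι := (Fintype.equivFinOfCardEq hk).symm
  obtain ⟨g, hg, hgu⟩ := Cfsg.Agent.H847.Ux.witt h hn h5 (hu.comp σ σ.injective) (hu'.comp σ σ.injective)
    (fun i j => h1 _ _) (fun i => h2 _)
  refine ⟨g, hg, fun i => ?_⟩
  have := hgu (σ.symm i)
  simpa only [Function.comp_apply, Equiv.apply_symm_apply] using this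

theorem B_sum_left {ι : Type*} [Fintype ι] (x : ι → V) (y : V) : Φ.B (∑ i, x i) y = ∑ i, Φ.B (x i) y := by
  have h := map_sum (Cfsg.Agent.H440.Bs.lin Φ y) x Finset.univ
  exact h

theorem coe_eq_sum {ι : Type*} [Fintype ι] {A : Submodule F V} (b : Basis ι F A) (x : A) :
    (x : V) = ∑ i, b.repr x i • (b i : V) := by
  conv_lhs => rw [← b.sum_repr x]
  rw [Submodule.coe_sum]
  rfl

/-- a dual basis -/
theorem exists_dual [Finite F] [Module.Finite F V] {A A' : Submodule F V} {d : ℕ}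
    (hA' : finrank F A' = d) (ti' : Φ.TI A') (nd : Φ.NdOn (A ⊔ A')) (b : Basis (Fin d) F A) :
    ∃ c : Basis (Fin d) F A', ∀ i j, Φ.B (b i) (c j) = if i = j then 1 else 0 := by
  have hfV : Finite V := Module.finite_of_finite F
  let f : A' → (Fin d → F) := fun c i => Φ.B (b i) c
  have hf : Function.Injective f := by
    intro c c' hcc
    have h1 : ∀ i, Φ.B (b i) ((c : V) - c') = 0 := by
      intro i
      have h2 := Φ.add_right (b i) (c' : V) ((c : V) - c')
      rw [add_sub_cancel] at h2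
      have h3 : Φ.B (b i) c = Φ.B (b i) c' := congrFun hcc i
      rw [h3] at h2
      exact left_eq_add.1 h2
    have h2 : ∀ a ∈ A, Φ.B a ((c : V) - c') = 0 := by
      intro a ha
      have h4 : a = ∑ i, b.repr ⟨a, ha⟩ i • (b i : V) := coe_eq_sum b ⟨a, ha⟩
      rw [h4, B_sum_left]
      refine Finset.sum_eq_zero fun i _ => ?_
      rw [Φ.smul_left, h1, mul_zero]
    have h3 : ((c : V) - c') = 0 := by
      have hm : ((c : V) - c') ∈ A' := A'.sub_mem c.2 c'.2
      refine nd _ (Submodule.mem_sup_right hm) fun y hy => ?_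
      obtain ⟨a, ha, a', ha', rfl⟩ := Submodule.mem_sup.1 hy
      rw [Φ.add_right, Φ.refl _ _ (h2 a ha), ti'.1 _ hm _ ha', add_zero]
    exact Subtype.ext (sub_eq_zero.1 h3)
  have hcard : Nat.card (Fin d → F) ≤ Nat.card A' := by
    rw [← hA', Module.natCard_eq_pow_finrank (K := F) (V := A'), Nat.card_fun, Nat.card_fin]
  obtain ⟨-, hsur⟩ := hf.bijective_of_nat_card_le hcard
  have h5 : ∀ j : Fin d, ∃ c : A', f c = Pi.single j 1 := fun j => hsur _
  choose c hc using h5
  have hBc : ∀ i j, Φ.B (b i) (c j) = if i = j then 1 else 0 := by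
    intro i j
    have := congrFun (hc j) i
    rw [Pi.single_apply] at this
    exact this
  have hli : LinearIndependent F c := by
    rw [Fintype.linearIndependent_iff]
    intro w hw i
    have h6 : (∑ j, w j • (c j : V)) = 0 := by
      have := congrArg Subtype.val hw
      simpa using this
    have h7 := B_sum_left (Φ := Φ) (fun j => w j • (c j : V)) (b i : V)
    rw [h6, Cfsg.Agent.H440.Bs.B_zero_left, Finset.sum_eq_single i] at h7
    · rw [Φ.smul_left] at h7
      rcases mul_eq_zero.1 h7.symm with h8 | h8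
      · exact h8
      · exfalso
        have h9 := Φ.refl _ _ h8
        rw [hBc, if_pos rfl] at h9
        exact one_ne_zero h9
    · intro j _ hj
      rw [Φ.smul_left, Φ.refl (b i : V) (c j : V) (by rw [hBc, if_neg (Ne.symm hj)]), mul_zero]
    · intro hi
      exact absurd (Finset.mem_univ i) hi
  have hcd : Fintype.card (Fin d) = finrank F A' := by rw [Fintype.card_fin, hA']
  rcases Nat.eq_zero_or_pos d with hd0 | hd0
  · subst hd0
    refine ⟨Module.finBasisOfFinrankEq F A' hA', fun i => i.elim0⟩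
  · have : Nonempty (Fin d) := ⟨⟨0, hd0⟩⟩
    refine ⟨basisOfLinearIndependentOfCardEqFinrank hli hcd, fun i j => ?_⟩
    rw [coe_basisOfLinearIndependentOfCardEqFinrank]
    exact hBc i j

/-- the family of a configuration -/
def fam {ι κ : Type*} {E A A' : Submodule F V} (bE : ι → E) (b : κ → A) (c : κ → A') : ι ⊕ (κ ⊕ κ) → V :=
  Sum.elim (fun i => (bE i : V)) (Sum.elim (fun i => (b i : V)) fun i => (c i : V))

theorem fam_li {ι κ : Type*} {E A A' : Submodule F V} {e d : ℕ} (h : Cfg Φ e d E A A') {bE : ι → E} {b : κ → A}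
    {c : κ → A'} (hE : LinearIndependent F bE) (hb : LinearIndependent F b) (hc : LinearIndependent F c) :
    LinearIndependent F (fam bE b c) := by
  have hE' : LinearIndependent F (fun i => (bE i : V)) := hE.map' E.subtype (Submodule.ker_subtype E)
  have hb' : LinearIndependent F (fun i => (b i : V)) := hb.map' A.subtype (Submodule.ker_subtype A)
  have hc' : LinearIndependent F (fun i => (c i : V)) := hc.map' A'.subtype (Submodule.ker_subtype A')
  have sE : Submodule.span F (Set.range fun i => (bE i : V)) ≤ E := by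
    rw [Submodule.span_le]
    rintro _ ⟨i, rfl⟩
    exact (bE i).2
  have sA : Submodule.span F (Set.range fun i => (b i : V)) ≤ A := by
    rw [Submodule.span_le]
    rintro _ ⟨i, rfl⟩
    exact (b i).2
  have sA' : Submodule.span F (Set.range fun i => (c i : V)) ≤ A' := by
    rw [Submodule.span_le]
    rintro _ ⟨i, rfl⟩
    exact (c i).2
  have h1 : LinearIndependent F (Sum.elim (fun i => (b i : V)) fun i => (c i : V)) :=
    hb'.sum_type hc' (h.disj.mono sA sA')
  have hEA : Disjoint E (A ⊔ A') := by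
    rw [Submodule.disjoint_def]
    intro x hx hx'
    exact h.nd x hx fun y hy => Φ.refl _ _ (h.orth y hy x hx')
  refine hE'.sum_type h1 (hEA.mono sE ?_)
  rw [Set.Sum.elim_range, Submodule.span_union]
  exact sup_le_sup sA sA'

variable [Finite F] [Module.Finite F V]

/-- **Witt's theorem for configurations** -/
theorem key (h : Cfsg.Agent.H847.Ux.Kl Φ G N) {e d : ℕ} (hn : 2 * (e + 2 * d) + 3 ≤ finrank F V) (hd : 1 ≤ d)
    {E₀ A₀ A₀' E A A' : Submodule F V} (h0 : Cfg Φ e d E₀ A₀ A₀') (h1 : Cfg Φ e d E A A') (j : E₀ ≃ₗ[F] E)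
    (hjB : ∀ x y : E₀, Φ.B (j x) (j y) = Φ.B x y) (hjq : ∀ x : E₀, Φ.q (j x) = Φ.q x) (a : A₀ ≃ₗ[F] A) :
    ∃ g ∈ G, (∀ x : E₀, g x = j x) ∧ (∀ x : A₀, g x = a x) ∧ E₀.map (g : V →ₗ[F] V) = E ∧
      A₀.map (g : V →ₗ[F] V) = A ∧ A₀'.map (g : V →ₗ[F] V) = A' := by
  classical
  have hfV : Finite V := Module.finite_of_finite F
  let bE : Basis (Fin e) F E₀ := Module.finBasisOfFinrankEq F E₀ h0.dim
  let b : Basis (Fin d) F A₀ := Module.finBasisOfFinrankEq F A₀ h0.dimA
  obtain ⟨c, hc⟩ := exists_dual h0.dimA' h0.ti' h0.ndA b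
  let b' : Basis (Fin d) F A := b.map a
  obtain ⟨c', hc'⟩ := exists_dual h1.dimA' h1.ti' h1.ndA b'
  let bE' : Basis (Fin e) F E := bE.map j
  have hbE' : ∀ i, bE' i = j (bE i) := fun i => Basis.map_apply _ _ _
  have hb' : ∀ i, b' i = a (b i) := fun i => Basis.map_apply _ _ _
  have hu := fam_li h0 bE.linearIndependent b.linearIndependent c.linearIndependent
  have hu' := fam_li h1 bE'.linearIndependent b'.linearIndependent c'.linearIndependent
  have hcard : Fintype.card (Fin e ⊕ (Fin d ⊕ Fin d)) = e + 2 * d := by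
    rw [Fintype.card_sum, Fintype.card_sum, Fintype.card_fin, Fintype.card_fin]
    ring
  have oEA : ∀ {e d : ℕ} {E A A' : Submodule F V}, Cfg Φ e d E A A' → ∀ (x : E) (y : A), Φ.B x y = 0 :=
    fun h x y => h.orth _ x.2 _ (Submodule.mem_sup_left y.2)
  have oEA' : ∀ {e d : ℕ} {E A A' : Submodule F V}, Cfg Φ e d E A A' → ∀ (x : E) (y : A'), Φ.B x y = 0 :=
    fun h x y => h.orth _ x.2 _ (Submodule.mem_sup_right y.2)
  obtain ⟨g, hg, hgu⟩ := witt' h hcard hn (by omega) hu hu' (by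
    rintro (i | i | i) (k | k | k)
    · show Φ.B (bE i) (bE k) = Φ.B (bE' i) (bE' k)
      rw [hbE', hbE', hjB]
    · exact (oEA h0 _ _).trans (oEA h1 _ _).symm
    · exact (oEA' h0 _ _).trans (oEA' h1 _ _).symm
    · exact (Φ.refl _ _ (oEA h0 _ _)).trans (Φ.refl _ _ (oEA h1 _ _)).symm
    · exact (h0.ti.1 _ (b i).2 _ (b k).2).trans (h1.ti.1 _ (b' i).2 _ (b' k).2).symm
    · exact (hc i k).trans (hc' i k).symm
    · exact (Φ.refl _ _ (oEA' h0 _ _)).trans (Φ.refl _ _ (oEA' h1 _ _)).symm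
    · exact h.swap ((hc k i).trans (hc' k i).symm)
    · exact (h0.ti'.1 _ (c i).2 _ (c k).2).trans (h1.ti'.1 _ (c' i).2 _ (c' k).2).symm) (by
    rintro (i | i | i)
    · show Φ.q (bE i) = Φ.q (bE' i)
      rw [hbE', hjq]
    · exact (h0.ti.2 _ (b i).2).trans (h1.ti.2 _ (b' i).2).symm
    · exact (h0.ti'.2 _ (c i).2).trans (h1.ti'.2 _ (c' i).2).symm)
  have gE : ∀ x : E₀, g x = j x := by
    have h2 : (g : V →ₗ[F] V) ∘ₗ E₀.subtype = E.subtype ∘ₗ (j : E₀ →ₗ[F] E) := by
      refine bE.ext fun i => ?_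
      show g (bE i) = j (bE i)
      rw [← hbE']
      exact hgu (Sum.inl i)
    exact fun x => LinearMap.congr_fun h2 x
  have gA : ∀ x : A₀, g x = a x := by
    have h2 : (g : V →ₗ[F] V) ∘ₗ A₀.subtype = A.subtype ∘ₗ (a : A₀ →ₗ[F] A) := by
      refine b.ext fun i => ?_
      show g (b i) = a (b i)
      rw [← hb']
      exact hgu (Sum.inr (Sum.inl i))
    exact fun x => LinearMap.congr_fun h2 x
  have gA' : ∀ x : A₀', g x ∈ A' := by
    have h2 : ∀ x : A₀', (x : V) ∈ A'.comap (g : V →ₗ[F] V) := by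
      intro x
      rw [coe_eq_sum c x]
      refine Submodule.sum_mem _ fun i _ => Submodule.smul_mem _ _ ?_
      show g (c i) ∈ A'
      have h4 : g (c i) = c' i := hgu (Sum.inr (Sum.inr i))
      rw [h4]
      exact (c' i).2
    exact h2
  have hfr : ∀ X : Submodule F V, finrank F (X.map (g : V →ₗ[F] V)) = finrank F X :=
    fun X => LinearEquiv.finrank_map_eq g X
  refine ⟨g, hg, gE, gA, ?_, ?_, ?_⟩
  · refine Submodule.eq_of_le_of_finrank_eq ?_ (by rw [hfr, h0.dim, h1.dim])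
    rintro _ ⟨x, hx, rfl⟩
    show g x ∈ E
    rw [gE ⟨x, hx⟩]
    exact (j ⟨x, hx⟩).2
  · refine Submodule.eq_of_le_of_finrank_eq ?_ (by rw [hfr, h0.dimA, h1.dimA])
    rintro _ ⟨x, hx, rfl⟩
    show g x ∈ A
    rw [gA ⟨x, hx⟩]
    exact (a ⟨x, hx⟩).2
  · refine Submodule.eq_of_le_of_finrank_eq ?_ (by rw [hfr, h0.dimA', h1.dimA'])
    rintro _ ⟨x, hx, rfl⟩
    exact gA' ⟨x, hx⟩

end Cfsg.Agent.H541.Ux
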