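import Cfsg.Agent.H541.Ux.Cnt
import Cfsg.Agent.H541.Ux.IsoE
import Cfsg.Agent.H383.RG.Count
import Cfsg.Agent.H50.RG.Stat3
import Cfsg.Agent.H440.Bs.Trans

/-!
# S5716, task UM1: first moment of pairs of blocks (helper541)

`um1_of` : `UM1` from the upper bound for the number of irreducible isometries (UT2b).
-/

set_option autoImplicit false

namespace Cfsg.Agent.H541.Ux

open Module Cfsg.Agent.H847.Bs Cfsg.Agent.H141.Ux Cfsg.Agent.LieClassical.OrthCore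
open Cfsg.Agent.H440.Bs (perp mem_perp restr restr_apply)
open Cfsg.Agent.H50.RG (IrrM II)

/-- UT2b: upper bound for the number of irreducible isometries -/
def IrrB : Prop := ∃ C : ℝ, ∀ (F X : Type) [Field F] [Finite F] [AddCommGroup X] [Module F X] [Module.Finite F X]
  (Φ : Frm F X), (IsSp Φ ∨ (∃ r, IsHerm r Φ) ∨ ∃ Q : QuadraticForm F X, (frmQ Q).Nd ∧ Φ = frmQ Q) →
  2 ≤ finrank F X → (Nat.card {s : X ≃ₗ[F] X // s ∈ Φ.Iso ∧ Irr s ⊤} : ℝ) * finrank F X ≤ C * Nat.card Φ.Iso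

/-- the number of irreducible automorphisms -/
theorem card_irr_gl {F X : Type} [Field F] [Finite F] [AddCommGroup X] [Module F X] [Module.Finite F X] {d : ℕ}
    (hd : 1 ≤ d) (hX : finrank F X = d) :
    d * Nat.card {g : X ≃ₗ[F] X // Irr g ⊤} ≤ Nat.card (X ≃ₗ[F] X) := by
  have h1 := Cfsg.Agent.H383.RG.rg_L02 F d hd
  let e : X ≃ₗ[F] (Fin d → F) := LinearEquiv.ofFinrankEq _ _ (by rw [hX, finrank_fintype_fun_eq_card, Fintype.card_fin])
  have h2 : Nat.card {g : X ≃ₗ[F] X // Irr g ⊤} = Nat.card {g : GL (Fin d) F // IrrM F g} := by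
    rw [Cfsg.Agent.H50.RG.card_II]
    refine Nat.card_congr ((Cfsg.Agent.H440.Bs.tr e).toEquiv.subtypeEquiv fun g => ?_)
    have h3 : (⊤ : Submodule F X).map (e : X →ₗ[F] (Fin d → F)) = ⊤ := by
      rw [Submodule.map_top, LinearEquiv.range]
    constructor
    · intro h
      have h4 := Cfsg.Agent.H440.Bs.Irr.tr (e := e) h
      rw [h3] at h4
      exact h4
    · intro h
      have h4 : Irr (Cfsg.Agent.H440.Bs.tr e g) ⊤ := h
      have h5 := Cfsg.Agent.H440.Bs.Irr.tr' (e := e) h4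
      rw [Submodule.map_top, LinearEquiv.range] at h5
      exact h5
  have h3 : Nat.card (X ≃ₗ[F] X) = Nat.card (GL (Fin d) F) :=
    Nat.card_congr ((Cfsg.Agent.H440.Bs.tr e).toEquiv.trans (Cfsg.Agent.H50.RG.mE F d).symm.toEquiv)
  rw [h2, h3]
  exact h1

section act

variable {F V : Type*} [Field F] [AddCommGroup V] [Module F V]

/-- the action on triples of subspaces -/
def act (g : V ≃ₗ[F] V) (w : Submodule F V × Submodule F V × Submodule F V) :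
    Submodule F V × Submodule F V × Submodule F V :=
  (w.1.map (g : V →ₗ[F] V), w.2.1.map (g : V →ₗ[F] V), w.2.2.map (g : V →ₗ[F] V))

theorem act_mul (g h : V ≃ₗ[F] V) (w : Submodule F V × Submodule F V × Submodule F V) :
    act (g * h) w = act g (act h w) := by
  have h1 : ∀ X : Submodule F V, X.map ((g * h : V ≃ₗ[F] V) : V →ₗ[F] V) =
      (X.map (h : V →ₗ[F] V)).map (g : V →ₗ[F] V) := fun X => by
    rw [← Submodule.map_comp]
    rfl
  exact Prod.ext (h1 _) (Prod.ext (h1 _) (h1 _))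

theorem act_one (w : Submodule F V × Submodule F V × Submodule F V) : act (1 : V ≃ₗ[F] V) w = w := by
  have h1 : ∀ X : Submodule F V, X.map ((1 : V ≃ₗ[F] V) : V →ₗ[F] V) = X := fun X => Submodule.map_id X
  exact Prod.ext (h1 _) (Prod.ext (h1 _) (h1 _))

/-- the stabiliser of a triple -/
def stab (G : Subgroup (V ≃ₗ[F] V)) (w : Submodule F V × Submodule F V × Submodule F V) : Subgroup (V ≃ₗ[F] V) where
  carrier := {h | h ∈ G ∧ act h w = w}
  mul_mem' := fun {a b} ha hb => ⟨G.mul_mem ha.1 hb.1, by rw [act_mul, hb.2, ha.2]⟩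
  one_mem' := ⟨G.one_mem, act_one w⟩
  inv_mem' := fun {a} ha => ⟨G.inv_mem ha.1, by
    conv_lhs => rw [← ha.2]
    rw [← act_mul, inv_mul_cancel, act_one]⟩

theorem stab_inv {G : Subgroup (V ≃ₗ[F] V)} {E A A' : Submodule F V} {h : V ≃ₗ[F] V} (hh : h ∈ stab G (E, A, A')) :
    Inv h E ∧ Inv h A := by
  have h1 : E.map (h : V →ₗ[F] V) = E := congrArg Prod.fst hh.2
  have h2 : A.map (h : V →ₗ[F] V) = A := congrArg (fun p => p.2.1) hh.2
  refine ⟨fun v hv => ?_, fun v hv => ?_⟩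
  · rw [← h1]
    exact ⟨v, hv, rfl⟩
  · rw [← h2]
    exact ⟨v, hv, rfl⟩

variable [FiniteDimensional F V] {Φ : Frm F V} {G : Subgroup (V ≃ₗ[F] V)}

theorem restr_mem {g : V ≃ₗ[F] V} (hg : g ∈ Φ.Iso) {D : Submodule F V} (h : Inv g D) : restr g h ∈ (Φ.on D).Iso :=
  ⟨fun x y => hg.1 _ _, fun x => hg.2 _⟩

/-- restriction of the stabiliser to `E` and `A` -/
noncomputable def res (hG : G ≤ Φ.Iso) (E A A' : Submodule F V) :
    stab G (E, A, A') →* ((Φ.on E).Iso × (A ≃ₗ[F] A)) where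
  toFun h := (⟨restr h.1 (stab_inv h.2).1, restr_mem (hG h.2.1) _⟩, restr h.1 (stab_inv h.2).2)
  map_one' := Prod.ext (Subtype.ext (LinearEquiv.ext fun _ => rfl)) (LinearEquiv.ext fun _ => rfl)
  map_mul' := fun _ _ => Prod.ext (Subtype.ext (LinearEquiv.ext fun _ => rfl)) (LinearEquiv.ext fun _ => rfl)

end act

section

variable {F V : Type} [Field F] [Finite F] [AddCommGroup V] [Module F V] [Module.Finite F V] {Φ : Frm F V}
  {G : Subgroup (V ≃ₗ[F] V)} {N t e d : ℕ}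

theorem res_surj (hK : Kl Φ G N t) (hn : 2 * (e + 2 * d) + 3 ≤ finrank F V) (hd : 1 ≤ d) {E A A' : Submodule F V}
    (h : Cfg Φ e d E A A') : Function.Surjective (res (kl_le hK) E A A') := by
  rintro ⟨⟨x, hx⟩, a⟩
  obtain ⟨g, hg, h1, h2, h3, h4, h5⟩ := key (kl_of hK) hn hd h h x hx.1 hx.2 a
  refine ⟨⟨g, hg, Prod.ext h3 (Prod.ext h4 h5)⟩, ?_⟩
  refine Prod.ext (Subtype.ext (LinearEquiv.ext fun v => Subtype.ext (h1 v))) (LinearEquiv.ext fun v => Subtype.ext (h2 v))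

theorem irr_of_z {y z : V ≃ₗ[F] V} {D : Submodule F V} (hz : z ∈ Subgroup.zpowers y) (hy : Inv y D) (hD : D ≠ ⊥)
    (h : ∀ W ≤ D, Inv z W → W = ⊥ ∨ W = D) : Irr (restr y hy) ⊤ :=
  irr_top_of hy hD fun W hW hWi => h W hW (inv_of_mem hz hWi)

/-- the elements attached to a fixed configuration -/
theorem fib_le (hK : Kl Φ G N t) (hn : 2 * (e + 2 * d) + 3 ≤ finrank F V) (h3 : 3 ≤ d) (hlt : d < e)
    {E A A' : Submodule F V} (h : Cfg Φ e d E A A') {C : ℝ}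
    (hC : (Nat.card {s : E ≃ₗ[F] E // s ∈ (Φ.on E).Iso ∧ Irr s ⊤} : ℝ) * e ≤ C * Nat.card (Φ.on E).Iso) :
    (Nat.card {y // y ∈ G ∧ (∃ z, StE Φ e y E z) ∧ ∃ z', StA Φ d y A A' z'} : ℝ) * (e * d) ≤
      C * Nat.card (stab G (E, A, A')) := by
  have hfin : ∀ (X : Type) [AddCommGroup X] [Module F X] [Module.Finite F X], Finite (X ≃ₗ[F] X) :=
    fun X _ _ _ => Cfsg.Agent.H440.Bs.finite_lin
  have hf1 := hfin V
  have hf2 := hfin E
  have hf3 := hfin A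
  have hG := kl_le hK
  have hE : E ≠ ⊥ := ne_bot_of_pos (by rw [h.dim]; omega)
  have hA : A ≠ ⊥ := ne_bot_of_pos (by rw [h.dimA]; omega)
  let X : Set ((Φ.on E).Iso × (A ≃ₗ[F] A)) := {p | Irr (p.1 : E ≃ₗ[F] E) ⊤ ∧ Irr p.2 ⊤}
  have h1 := card_pre (res hG E A A') (res_surj hK hn (by omega) h) X
  -- the elements are in the preimage
  have h2 : Nat.card {y // y ∈ G ∧ (∃ z, StE Φ e y E z) ∧ ∃ z', StA Φ d y A A' z'} ≤
      Nat.card {s // res hG E A A' s ∈ X} := by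
    refine Nat.card_le_card_of_injective (fun y => ⟨⟨y.1, y.2.1, ?_⟩, ?_, ?_⟩) ?_
    · obtain ⟨y, hy, ⟨z, hz⟩, z', hz'⟩ := y
      exact Prod.ext (Cfsg.Agent.H440.Bs.Inv.map_eq hz.inv) (Prod.ext (Cfsg.Agent.H440.Bs.Inv.map_eq hz'.inv)
        (Cfsg.Agent.H440.Bs.Inv.map_eq hz'.inv'))
    · obtain ⟨y, hy, ⟨z, hz⟩, z', hz'⟩ := y
      exact irr_of_z hz.mem hz.inv hE hz.irr
    · obtain ⟨y, hy, ⟨z, hz⟩, z', hz'⟩ := y
      exact irr_of_z hz'.mem hz'.inv hA hz'.irr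
    · intro y y' hyy
      exact Subtype.ext (congrArg (fun s => (s.1.1 : V ≃ₗ[F] V)) hyy)
  have h4 : Nat.card X = Nat.card {s : E ≃ₗ[F] E // s ∈ (Φ.on E).Iso ∧ Irr s ⊤} * Nat.card {g : A ≃ₗ[F] A // Irr g ⊤} := by
    rw [← Nat.card_prod]
    refine Nat.card_congr
      { toFun := fun p => (⟨p.1.1, p.1.1.2, p.2.1⟩, ⟨p.1.2, p.2.2⟩)
        invFun := fun p => ⟨(⟨p.1.1, p.1.2.1⟩, p.2.1), p.1.2.2, p.2.2⟩
        left_inv := fun p => rfl
        right_inv := fun p => rfl }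
  have h5 := card_irr_gl (F := F) (X := A) (d := d) (by omega) h.dimA
  rw [Nat.card_prod, h4] at h1
  set s := Nat.card {y // y ∈ G ∧ (∃ z, StE Φ e y E z) ∧ ∃ z', StA Φ d y A A' z'} with hs
  set P := Nat.card {s // res hG E A A' s ∈ X} with hP
  set I := Nat.card (Φ.on E).Iso with hI
  set L := Nat.card (A ≃ₗ[F] A) with hL
  set i := Nat.card {s : E ≃ₗ[F] E // s ∈ (Φ.on E).Iso ∧ Irr s ⊤} with hi
  set l := Nat.card {g : A ≃ₗ[F] A // Irr g ⊤} with hl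
  have hI0 : 0 < I := Nat.card_pos
  have hL0 : 0 < L := Nat.card_pos
  have h1' : (P : ℝ) * (I * L) ≤ i * l * Nat.card (stab G (E, A, A')) := by exact_mod_cast h1
  have h2' : (s : ℝ) ≤ P := by exact_mod_cast h2
  have h5' : (d : ℝ) * l ≤ L := by exact_mod_cast h5
  have hIL : (0 : ℝ) < I * L := by positivity
  set S : ℝ := ((Nat.card (stab G (E, A, A')) : ℕ) : ℝ) with hS
  have hS0 : 0 ≤ S := Nat.cast_nonneg _
  have hCI : 0 ≤ C * I := le_trans (by positivity) hC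
  refine le_of_mul_le_mul_right ?_ hIL
  calc (s : ℝ) * (e * d) * (I * L) = (s * (I * L)) * (e * d) := by ring
    _ ≤ (P * (I * L)) * (e * d) := by
        refine mul_le_mul_of_nonneg_right (mul_le_mul_of_nonneg_right h2' hIL.le) (by positivity)
    _ ≤ (i * l * S) * (e * d) := mul_le_mul_of_nonneg_right h1' (by positivity)
    _ = (i * e) * (d * l) * S := by ring
    _ ≤ (C * I) * L * S := by
        refine mul_le_mul_of_nonneg_right ?_ hS0
        exact mul_le_mul hC h5' (by positivity) hCI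
    _ = C * S * (I * L) := by ring

end

/-- **UM1** from the upper bound for the number of irreducible isometries -/
theorem um1_of (hB : IrrB) : UM1 := by
  obtain ⟨C, hC⟩ := hB
  refine ⟨C, ?_⟩
  intro F V _ _ _ _ _ Φ G N t e d hK hn h3 hlt y₀ hy₀ E₀ A₀ A₀' z₀ z₀' hE₀ hA₀
  have hcfg := cfg_of hK hlt hy₀ hE₀ hA₀
  refine ⟨hcfg, fun Bad => ?_⟩
  have hfin : Finite (V ≃ₗ[F] V) := Cfsg.Agent.H440.Bs.finite_lin
  have hG := kl_le hK
  let P : Submodule F V × Submodule F V × Submodule F V → (V ≃ₗ[F] V) → Prop := fun w y =>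
    (∃ z, StE Φ e y w.1 z) ∧ ∃ z', StA Φ d y w.2.1 w.2.2 z'
  have hfrm : IsSp (Φ.on E₀) ∨ (∃ r, IsHerm r (Φ.on E₀)) ∨
      ∃ Q : QuadraticForm F E₀, (frmQ Q).Nd ∧ Φ.on E₀ = frmQ Q := by
    rcases hK with ⟨h1, -, -, -⟩ | ⟨r, h1, -, -, -⟩ | ⟨Q, h1, rfl, -, -, -⟩
    · exact Or.inl (Cfsg.Agent.H42.Bs.isSp_on h1 hE₀.nd)
    · exact Or.inr (Or.inl ⟨r, Cfsg.Agent.H42.Bs.isHerm_on h1 hE₀.nd⟩)
    · exact Or.inr (Or.inr ⟨Q.comp E₀.subtype, Cfsg.Agent.H42.Bs.nondeg_comp hE₀.nd, rfl⟩)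
  have h1 := hC F E₀ (Φ.on E₀) hfrm (by rw [hE₀.dim]; omega)
  rw [hE₀.dim] at h1
  have h2 := fib_le hK hn h3 hlt hcfg h1
  have h4 := count act act_mul act_one G (E₀, A₀, A₀') P (fun w => Bad w.1 w.2.1 w.2.2)
    (by
      rintro g hg w y ⟨⟨z, hz⟩, z', hz'⟩
      exact ⟨⟨_, stE_conj (hG hg) hz⟩, _, stA_conj (hG hg) hz'⟩)
    (by
      rintro y hy ⟨E, A, A'⟩ ⟨⟨z, hz⟩, z', hz'⟩
      have hcfg' := cfg_of hK hlt hy hz hz'
      obtain ⟨j, hj1, hj2⟩ := exists_isoE hK (by omega) hy₀ hy hE₀ hz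
      let a : A₀ ≃ₗ[F] A := LinearEquiv.ofFinrankEq _ _ (hcfg.dimA.trans hcfg'.dimA.symm)
      obtain ⟨g, hg, -, -, h5, h6, h7⟩ := key (kl_of hK) hn (by omega) hcfg hcfg' j hj1 hj2 a
      exact ⟨g, hg, (Prod.ext h5 (Prod.ext h6 h7)).symm⟩)
  have e1 : Nat.card {y // y ∈ G ∧ ∃ w, P w y ∧ (fun w : Submodule F V × Submodule F V × Submodule F V =>
      Bad w.1 w.2.1 w.2.2) w} = cnt G (fun y => ∃ E A A' z z', StE Φ e y E z ∧ StA Φ d y A A' z' ∧ Bad E A A') := by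
    refine Nat.card_congr (Equiv.subtypeEquivRight fun y => and_congr_right fun _ => ?_)
    constructor
    · rintro ⟨⟨E, A, A'⟩, ⟨⟨z, hz⟩, z', hz'⟩, hb⟩
      exact ⟨E, A, A', z, z', hz, hz', hb⟩
    · rintro ⟨E, A, A', z, z', hz, hz', hb⟩
      exact ⟨⟨E, A, A'⟩, ⟨⟨z, hz⟩, z', hz'⟩, hb⟩
  rw [e1] at h4
  have e2 : Nat.card {g // g ∈ G ∧ (fun w : Submodule F V × Submodule F V × Submodule F V =>
      Bad w.1 w.2.1 w.2.2) (act g (E₀, A₀, A₀'))} =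
      cnt G (fun g => Bad (E₀.map (g : V →ₗ[F] V)) (A₀.map (g : V →ₗ[F] V)) (A₀'.map (g : V →ₗ[F] V))) := rfl
  rw [e2] at h4
  have e3 : Nat.card {h // h ∈ G ∧ act h (E₀, A₀, A₀') = (E₀, A₀, A₀')} = Nat.card (stab G (E₀, A₀, A₀')) := rfl
  rw [e3] at h4
  have e4 : Nat.card {y // y ∈ G ∧ P (E₀, A₀, A₀') y} =
      Nat.card {y // y ∈ G ∧ (∃ z, StE Φ e y E₀ z) ∧ ∃ z', StA Φ d y A₀ A₀' z'} := rfl
  rw [e4] at h4
  set L := cnt G (fun y => ∃ E A A' z z', StE Φ e y E z ∧ StA Φ d y A A' z' ∧ Bad E A A') with hL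
  set R := cnt G (fun g => Bad (E₀.map (g : V →ₗ[F] V)) (A₀.map (g : V →ₗ[F] V)) (A₀'.map (g : V →ₗ[F] V))) with hR
  have hS : 0 < Nat.card (stab G (E₀, A₀, A₀')) := Nat.card_pos
  set S := Nat.card (stab G (E₀, A₀, A₀')) with hSd
  set s := Nat.card {y // y ∈ G ∧ (∃ z, StE Φ e y E₀ z) ∧ ∃ z', StA Φ d y A₀ A₀' z'} with hs
  have h4' : (L : ℝ) * S ≤ R * s := by exact_mod_cast h4
  have hS' : (0 : ℝ) < S := by exact_mod_cast hS
  refine le_of_mul_le_mul_right ?_ hS'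
  calc (L : ℝ) * (e * d) * S = (L * S) * (e * d) := by ring
    _ ≤ (R * s) * (e * d) := mul_le_mul_of_nonneg_right h4' (by positivity)
    _ = R * (s * (e * d)) := by ring
    _ ≤ R * (C * S) := mul_le_mul_of_nonneg_left h2 (Nat.cast_nonneg _)
    _ = C * R * S := by ring

end Cfsg.Agent.H541.Ux
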